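import Mathlib.Algebra.Module.FinitePresentation
import Mathlib.LinearAlgebra.Pi
import Mathlib.RingTheory.Finiteness.Finsupp
import Mathlib.RingTheory.Finiteness.Cardinality
import Mathlib.LinearAlgebra.Quotient.Pi
import Mathlib.RingTheory.Ideal.Quotient.Basic
import Mathlib.Tactic.LinearCombination

/-!
# Finitely presented modules over chain rings
-/

set_option autoImplicit false

namespace Groth.L05.ChainRing

universe u

variable {R : Type u} [CommRing R]

theorem exists_dvd_all (h : ∀ a b : R, a ∣ b ∨ b ∣ a) {ι : Type*} (s : Finset ι) (hs : s.Nonempty) (a : ι → R) :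
    ∃ i ∈ s, ∀ j ∈ s, a i ∣ a j := by
  classical
  induction hs using Finset.Nonempty.cons_induction with
  | singleton i => exact ⟨i, Finset.mem_singleton_self i, fun j hj => by rw [Finset.mem_singleton.mp hj]⟩
  | cons i t hit _ ih =>
    obtain ⟨k, hk, hkd⟩ := ih
    rcases h (a i) (a k) with h' | h'
    · refine ⟨i, Finset.mem_cons_self _ _, fun j hj => ?_⟩
      rcases Finset.mem_cons.mp hj with rfl | hj
      · exact dvd_rfl
      · exact h'.trans (hkd j hj)
    · refine ⟨k, Finset.mem_cons.mpr (Or.inr hk), fun j hj => ?_⟩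
      rcases Finset.mem_cons.mp hj with rfl | hj
      · exact h'
      · exact hkd j hj

theorem diag (h : ∀ a b : R, a ∣ b ∨ b ∣ a) : ∀ (n : ℕ) (K : Submodule R (Fin n → R)), K.FG →
    ∃ f : Fin n → R, Nonempty (((Fin n → R) ⧸ K) ≃ₗ[R] ((i : Fin n) → R ⧸ Ideal.span {f i})) := by
  classical
  intro n
  induction n with
  | zero => intro K _; exact ⟨Fin.elim0, ⟨LinearEquiv.ofSubsingleton _ _⟩⟩
  | succ n ih =>
    intro K hK
    obtain ⟨s, hs⟩ := hK
    rcases s.eq_empty_or_nonempty with rfl | hsne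
    · refine ⟨0, ⟨?_⟩⟩
      rw [Finset.coe_empty, Submodule.span_empty] at hs
      refine (Submodule.quotEquivOfEqBot K hs.symm) ≪≫ₗ LinearEquiv.piCongrRight fun i => ?_
      exact (Submodule.quotEquivOfEqBot _ (by simp)).symm
    obtain ⟨⟨k, j⟩, hkj, hmin⟩ := exists_dvd_all h (s ×ˢ (Finset.univ : Finset (Fin (n + 1))))
      (hsne.product Finset.univ_nonempty) (fun p => p.1 p.2)
    have hk : k ∈ K := hs ▸ Submodule.subset_span (Finset.mem_product.mp hkj).1
    have hdvd : ∀ x ∈ K, ∀ i, k j ∣ x i := by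
      rw [← hs]
      intro x hx i
      induction hx using Submodule.span_induction with
      | mem y hy => exact hmin (y, i) (Finset.mem_product.mpr ⟨hy, Finset.mem_univ _⟩)
      | zero => exact dvd_zero _
      | add y z _ _ hy hz => exact dvd_add hy hz
      | smul c y _ hy => exact dvd_mul_of_dvd_right hy c
    let v : Fin (n + 1) → R := fun i => if i = j then 1 else (hdvd k hk i).choose
    have hv : k = k j • v := funext fun i => by
      simp only [v, Pi.smul_apply, smul_eq_mul]
      split_ifs with hi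
      · rw [hi, mul_one]
      · exact (hdvd k hk i).choose_spec
    let p : (Fin (n + 1) → R) →ₗ[R] (Fin n → R) :=
      (LinearMap.funLeft R R j.succAbove) ∘ₗ (LinearMap.id - (LinearMap.proj j).smulRight v)
    obtain ⟨f, ⟨e⟩⟩ := ih (K.map p) (Submodule.FG.map p ⟨s, hs⟩)
    have hvj : v j = 1 := if_pos rfl
    have hp : ∀ x i, p x i = x (j.succAbove i) - x j * v (j.succAbove i) := fun x i => rfl
    let φ : (Fin (n + 1) → R) →ₗ[R] (R ⧸ Ideal.span {k j}) × ((Fin n → R) ⧸ K.map p) :=
      ((Submodule.mkQ _) ∘ₗ LinearMap.proj j).prod ((K.map p).mkQ ∘ₗ p)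
    have hker : LinearMap.ker φ = K := by
      ext x
      simp only [φ, LinearMap.mem_ker, LinearMap.prod_apply, Function.prod_apply, LinearMap.comp_apply, LinearMap.proj_apply,
        Prod.mk_eq_zero, Submodule.mkQ_apply, Submodule.Quotient.mk_eq_zero]
      refine ⟨fun ⟨hxj, hxp⟩ => ?_, fun hx => ⟨Ideal.mem_span_singleton.mpr (hdvd x hx j),
        Submodule.mem_map_of_mem hx⟩⟩
      obtain ⟨y, hy, hyp⟩ := Submodule.mem_map.mp hxp
      obtain ⟨c, hc⟩ : k j ∣ x j - y j := dvd_sub (Ideal.mem_span_singleton.mp hxj) (hdvd y hy j)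
      have : x = y + c • k := funext fun i => by
        obtain rfl | ⟨i, rfl⟩ := Fin.eq_self_or_eq_succAbove j i
        · simp only [Pi.add_apply, Pi.smul_apply, smul_eq_mul]
          linear_combination hc
        · have h1 := congrFun hyp i
          rw [hp, hp] at h1
          have h2 : k (j.succAbove i) = k j * v (j.succAbove i) := congrFun hv _
          simp only [Pi.add_apply, Pi.smul_apply, smul_eq_mul]
          linear_combination -h1 + v (j.succAbove i) * hc - c * h2
      rw [this]
      exact K.add_mem hy (K.smul_mem c hk)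
    have hφ : Function.Surjective φ := by
      rintro ⟨a, b⟩
      obtain ⟨a, rfl⟩ := Submodule.Quotient.mk_surjective _ a
      obtain ⟨b, rfl⟩ := Submodule.Quotient.mk_surjective _ b
      refine ⟨j.insertNth a (fun i => b i + a * v (j.succAbove i)), Prod.ext ?_ ?_⟩
      · simp [φ]
      · simp only [φ, LinearMap.prod_apply, Function.prod_apply, LinearMap.comp_apply, Submodule.mkQ_apply]
        congr 1
        funext i
        simp [hp]
    refine ⟨Fin.cons (k j) f, ⟨(Submodule.quotEquivOfEq _ _ hker.symm) ≪≫ₗ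
      φ.quotKerEquivOfSurjective hφ ≪≫ₗ LinearEquiv.prodCongr (LinearEquiv.refl R _) e ≪≫ₗ ?_⟩⟩
    exact Fin.consLinearEquiv R fun i => R ⧸ Ideal.span {(Fin.cons (k j) f : Fin (n + 1) → R) i}

theorem exists_decomp (h : ∀ a b : R, a ∣ b ∨ b ∣ a) (M : Type u) [AddCommGroup M] [Module R M]
    [Module.FinitePresentation R M] :
    ∃ (n : ℕ) (f : Fin n → R), Nonempty (M ≃ₗ[R] ((i : Fin n) → R ⧸ Ideal.span {f i})) := by
  obtain ⟨n, π, hπ⟩ := Module.Finite.exists_fin' R M
  obtain ⟨f, ⟨e⟩⟩ := diag h n (LinearMap.ker π) (Module.FinitePresentation.fg_ker π hπ)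
  exact ⟨n, f, ⟨(π.quotKerEquivOfSurjective hπ).symm ≪≫ₗ e⟩⟩

end Groth.L05.ChainRing
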