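import Groth.Agent.L05.ChainRing.Smith
import Mathlib.RingTheory.LocalProperties.Projective
import Mathlib.LinearAlgebra.DFinsupp
import Mathlib.RingTheory.Localization.AtPrime.Basic

/-!
# Warfield's decomposition theorem
-/

set_option autoImplicit false
set_option linter.style.haveILetI false

namespace Groth.L05.ChainRing

universe u

variable {R : Type u} [CommRing R] (M : Type u) [AddCommGroup M] [Module R M] [Module.FinitePresentation R M]

theorem exists_local (S : Submonoid R) (h : ∀ a b : Localization S, a ∣ b ∨ b ∣ a) :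
    ∃ (n : ℕ) (r : Fin n → R) (φ : ((i : Fin n) → R ⧸ Ideal.span {r i}) →ₗ[R] M),
      Function.Bijective (LocalizedModule.map S φ) := by
  classical
  let L := LocalizedModule S M
  haveI : Module.FinitePresentation (Localization S) L := inferInstance
  obtain ⟨n, a, ⟨e⟩⟩ := exists_decomp h L
  choose r s hrs using fun i => IsLocalization.exists_mk'_eq S (a i)
  have hspan : ∀ i, Ideal.span {a i} = Ideal.span {algebraMap R (Localization S) (r i)} := fun i => by
    rw [← hrs i, IsLocalization.mk'_eq_mul_mk'_one, Ideal.span_singleton_mul_right_unit]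
    exact IsUnit.of_mul_eq_one (algebraMap R (Localization S) (s i : R))
      (by rw [IsLocalization.mk'_spec, map_one])
  let b : Fin n → L := fun i => e.symm (Pi.single i (Ideal.Quotient.mk _ 1))
  choose x t hxt using fun i => IsLocalizedModule.surj S (LocalizedModule.mkLinearMap S M) (b i) |>.elim
    fun p hp => (⟨p.1, p.2, hp⟩ : ∃ x : M, ∃ t : S, t • b i = LocalizedModule.mkLinearMap S M x)
  have hrb : ∀ i, r i • b i = 0 := fun i => by
    rw [← algebraMap_smul (Localization S) (r i) (b i), ← map_smul, ← Pi.single_smul, LinearEquiv.map_eq_zero_iff,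
      Pi.single_eq_zero_iff, Algebra.smul_def, Ideal.Quotient.algebraMap_eq, ← map_mul, mul_one,
      Ideal.Quotient.eq_zero_iff_mem, hspan]
    exact Ideal.mem_span_singleton_self _
  have hex : ∀ i, ∃ w : S, (w : R) • r i • x i = 0 := fun i => by
    have : LocalizedModule.mkLinearMap S M (r i • x i) = 0 := by
      rw [map_smul, ← hxt, Submonoid.smul_def, smul_comm, hrb, smul_zero]
    obtain ⟨w, hw⟩ := (IsLocalizedModule.eq_zero_iff S (LocalizedModule.mkLinearMap S M)).mp this
    exact ⟨w, hw⟩
  choose w hw using hex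
  let g : ∀ i, (R ⧸ Ideal.span {r i}) →ₗ[R] M := fun i =>
    Submodule.liftQ (Ideal.span {r i}) (LinearMap.toSpanSingleton R M ((w i : R) • x i)) fun c hc => by
      obtain ⟨d, rfl⟩ := Ideal.mem_span_singleton'.mp hc
      show (d * r i) • (w i : R) • x i = 0
      rw [mul_smul, smul_comm (r i), hw, smul_zero]
  let φ : ((i : Fin n) → R ⧸ Ideal.span {r i}) →ₗ[R] M := ∑ i, g i ∘ₗ LinearMap.proj i
  -- the scaled generators
  let z : Fin n → Localization S := fun i => algebraMap R _ ((w i : R) * (t i : R))
  have hz : ∀ i, IsUnit (z i) := fun i => IsLocalization.map_units _ (w i * t i)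
  have hφ : ∀ c : Fin n → R, LocalizedModule.mkLinearMap S M (φ fun i => Submodule.Quotient.mk (c i)) =
      e.symm (fun i => Ideal.Quotient.mk _ (algebraMap R (Localization S) (c i) * z i)) := by
    intro c
    have h1 : φ (fun i => Submodule.Quotient.mk (c i)) = ∑ i, c i • (w i : R) • x i := by
      simp only [φ, g, LinearMap.sum_apply, LinearMap.comp_apply, LinearMap.proj_apply]
      exact Finset.sum_congr rfl fun i _ => Submodule.liftQ_apply _ _ _
    rw [h1, map_sum]
    conv_rhs => rw [← Finset.univ_sum_single fun i => Ideal.Quotient.mk (Ideal.span {a i})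
      (algebraMap R (Localization S) (c i) * z i), map_sum]
    refine Finset.sum_congr rfl fun i _ => ?_
    rw [map_smul, map_smul, ← hxt, Submonoid.smul_def, smul_smul, smul_smul,
      ← algebraMap_smul (Localization S) (c i * (w i : R) * (t i : R)), ← map_smul]
    congr 1
    rw [← Pi.single_smul, Algebra.smul_def, Ideal.Quotient.algebraMap_eq, ← map_mul, mul_one,
      show algebraMap R (Localization S) (c i * (w i : R) * (t i : R)) = algebraMap R _ (c i) * z i by
        simp only [z, map_mul, mul_assoc]]
  refine ⟨n, r, φ, ?_, ?_⟩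
  · refine (injective_iff_map_eq_zero _).mpr fun y hy => ?_
    induction y using LocalizedModule.induction_on with
    | _ y u =>
      rw [LocalizedModule.map_mk] at hy
      have hy0 : LocalizedModule.mkLinearMap S M (φ y) = 0 := by
        show LocalizedModule.mk (φ y) 1 = 0
        rw [← LocalizedModule.mk_cancel (s := u), Submonoid.smul_def, ← LocalizedModule.smul'_mk, hy]
        exact smul_zero (u : R)
      choose c hc using fun i => Submodule.Quotient.mk_surjective _ (y i)
      obtain rfl : y = fun i => Submodule.Quotient.mk (c i) := funext fun i => (hc i).symm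
      rw [hφ, LinearEquiv.map_eq_zero_iff] at hy0
      have hk : ∀ i, ∃ v : S, (v : R) • (Submodule.Quotient.mk (c i) : R ⧸ Ideal.span {r i}) = 0 := by
        intro i
        have h2 := congrFun hy0 i
        rw [Pi.zero_apply, Ideal.Quotient.eq_zero_iff_mem, hspan, Ideal.mul_unit_mem_iff_mem _ (hz i),
          ← Set.image_singleton, ← Ideal.map_span,
          IsLocalization.algebraMap_mem_map_algebraMap_iff S (Localization S)] at h2
        obtain ⟨v, hv, hv'⟩ := h2
        exact ⟨⟨v, hv⟩, (Submodule.Quotient.mk_eq_zero _).mpr hv'⟩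
      choose v hv using hk
      rw [← LocalizedModule.mk_cancel_common_left (∏ i, v i) u]
      rw [show (∏ i, v i) • (fun i => (Submodule.Quotient.mk (c i) : R ⧸ Ideal.span {r i})) = 0 from
        funext fun i => by
          obtain ⟨q, hq⟩ := Finset.dvd_prod_of_mem v (Finset.mem_univ i)
          rw [Pi.smul_apply, hq, Pi.zero_apply, Submonoid.smul_def, Submonoid.coe_mul, mul_comm, mul_smul, hv, smul_zero],
        LocalizedModule.zero_mk]
  · intro m
    choose c hc using fun i => Ideal.Quotient.mk_surjective (e m i)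
    choose c' u hcu using fun i => IsLocalization.exists_mk'_eq S (c i * ↑(hz i).unit⁻¹)
    obtain ⟨d, hd⟩ := IsLocalization.exist_integer_multiples_of_finite S fun i => c i * ↑(hz i).unit⁻¹
    choose d' hd' using hd
    refine ⟨LocalizedModule.mk (fun i => Submodule.Quotient.mk (d' i)) d, ?_⟩
    rw [LocalizedModule.map_mk]
    have h1 : LocalizedModule.mkLinearMap S M (φ fun i => Submodule.Quotient.mk (d' i)) = (d : R) • m := by
      rw [hφ, LinearEquiv.symm_apply_eq, ← algebraMap_smul (Localization S) (d : R) m, map_smul]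
      funext i
      rw [Pi.smul_apply, ← hc, Algebra.smul_def, Ideal.Quotient.algebraMap_eq, ← map_mul]
      rw [map_mul (algebraMap R (Localization S)), hd' i, Algebra.smul_def, mul_assoc, mul_assoc]
      rw [show (↑(hz i).unit⁻¹ : Localization S) * algebraMap R _ ((w i : R) * (t i : R)) = 1 from
        IsUnit.val_inv_mul (hz i), mul_one, map_mul]
    induction m using LocalizedModule.induction_on with
    | _ m0 u0 =>
      rw [LocalizedModule.mkLinearMap_apply, LocalizedModule.smul'_mk, LocalizedModule.mk_eq] at h1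
      rw [LocalizedModule.mk_eq]
      obtain ⟨q, hq⟩ := h1
      refine ⟨q, ?_⟩
      simp only [one_smul, Submonoid.smul_def] at hq ⊢
      exact hq

theorem exists_summand (h : ∀ (m : Ideal R) [m.IsMaximal], ∀ a b : Localization.AtPrime m, a ∣ b ∨ b ∣ a) :
    ∃ (n : ℕ) (f : Fin n → R) (N : Type u) (_ : AddCommGroup N) (_ : Module R N),
      Nonempty ((M × N) ≃ₗ[R] ((i : Fin n) → R ⧸ Ideal.span {f i})) := by
  classical
  choose n r φ hφ using fun m : MaximalSpectrum R =>
    haveI := m.isMaximal
    exists_local M m.asIdeal.primeCompl (h m.asIdeal)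
  let J := Σ m : MaximalSpectrum R, Fin (n m)
  let P : J → Type u := fun j => R ⧸ Ideal.span {r j.1 j.2}
  let F : (Π₀ j, P j) →ₗ[R] M := DFinsupp.lsum ℕ fun j => φ j.1 ∘ₗ LinearMap.single R (fun i => R ⧸ Ideal.span {r j.1 i}) j.2
  obtain ⟨σ, hσ⟩ := F.split_surjective_of_localization_maximal fun I hI => by
    let m : MaximalSpectrum R := ⟨I, hI⟩
    let ι : ((i : Fin (n m)) → R ⧸ Ideal.span {r m i}) →ₗ[R] (Π₀ j, P j) :=
      ∑ i, (DFinsupp.lsingle (R := R) (M := P) ⟨m, i⟩) ∘ₗ LinearMap.proj i
    have hcomp : F ∘ₗ ι = φ m := by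
      refine LinearMap.pi_ext fun i x => ?_
      have : ι (Pi.single i x) = DFinsupp.single (⟨m, i⟩ : J) x := by
        simp only [ι, LinearMap.sum_apply, LinearMap.comp_apply, LinearMap.proj_apply]
        rw [Finset.sum_eq_single i (fun j _ hj => by rw [Pi.single_eq_of_ne hj, map_zero])
          (fun h => absurd (Finset.mem_univ _) h), Pi.single_eq_same]
        rfl
      rw [LinearMap.comp_apply, this, DFinsupp.lsum_single]
      rfl
    let e := LinearEquiv.ofBijective (LocalizedModule.map I.primeCompl (φ m)) (hφ m)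
    refine ⟨LocalizedModule.map I.primeCompl ι ∘ₗ e.symm.toLinearMap, LinearMap.ext fun y => ?_⟩
    simp only [LinearMap.comp_apply, LinearMap.id_apply, LinearEquiv.coe_coe]
    conv_rhs => rw [← e.apply_symm_apply y]
    generalize e.symm y = z
    induction z using LocalizedModule.induction_on with
    | _ z u =>
      rw [LinearEquiv.ofBijective_apply, LocalizedModule.map_mk, LocalizedModule.map_mk, LocalizedModule.map_mk,
        ← hcomp]
      rfl
  obtain ⟨gens, hgens⟩ := Module.Finite.fg_top (R := R) (M := M)
  let s : Finset J := gens.biUnion fun x => (σ x).support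
  let ρ : (Π₀ j, P j) →ₗ[R] ((j : s) → P j.1) := LinearMap.pi fun j => DFinsupp.lapply j.1
  let G : ((j : s) → P j.1) →ₗ[R] M :=
    ∑ j : s, F ∘ₗ DFinsupp.lsingle (R := R) (M := P) j.1 ∘ₗ LinearMap.proj j
  have hG : G ∘ₗ (ρ ∘ₗ σ) = LinearMap.id := by
    refine LinearMap.ext_on (hgens : Submodule.span R (gens : Set M) = ⊤) fun x hx => ?_
    have hsub : (σ x).support ⊆ s := Finset.subset_biUnion_of_mem (fun x => (σ x).support) hx
    simp only [G, ρ, LinearMap.comp_apply, LinearMap.sum_apply, LinearMap.proj_apply, LinearMap.pi_apply,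
      DFinsupp.lapply_apply, LinearMap.id_apply]
    rw [← map_sum, Finset.sum_coe_sort s fun j => DFinsupp.lsingle (R := R) (M := P) j (σ x j)]
    have : ∑ j ∈ s, DFinsupp.lsingle (R := R) (M := P) j (σ x j) = σ x := by
      ext j
      rw [DFinsupp.finsetSum_apply, Finset.sum_eq_single j
        (fun i _ hi => DFinsupp.single_eq_of_ne hi.symm)
        (fun hj => by
          rw [DFinsupp.notMem_support_iff.mp (fun h => hj (hsub h))]; simp)]
      exact DFinsupp.single_eq_same
    rw [this]
    exact LinearMap.congr_fun hσ x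
  let e : (M × LinearMap.ker G) ≃ₗ[R] ((j : s) → P j.1) :=
    { toFun := fun p => ρ (σ p.1) + p.2
      map_add' := fun p q => by simp only [Prod.fst_add, Prod.snd_add, map_add, Submodule.coe_add]; abel
      map_smul' := fun c p => by simp [smul_add]
      invFun := fun y => (G y, ⟨y - ρ (σ (G y)), by
        rw [LinearMap.mem_ker, map_sub]
        exact sub_eq_zero.mpr (LinearMap.congr_fun hG (G y)).symm⟩)
      left_inv := fun p => by
        have h2 : G (ρ (σ p.1) + p.2) = p.1 := by
          rw [map_add, show G (ρ (σ p.1)) = p.1 from LinearMap.congr_fun hG p.1,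
            show G p.2 = 0 from p.2.2, add_zero]
        exact Prod.ext h2 (Subtype.ext (by simp only [h2]; abel))
      right_inv := fun y => add_sub_cancel _ _ }
  exact ⟨Fintype.card s, fun i => r ((Fintype.equivFin s).symm i).1.1 ((Fintype.equivFin s).symm i).1.2,
    LinearMap.ker G, inferInstance, inferInstance,
    ⟨e ≪≫ₗ (LinearEquiv.piCongrLeft R (fun j : s => P j.1) (Fintype.equivFin s).symm).symm⟩⟩

end Groth.L05.ChainRing
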